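import Cfsg.Agent.Lib.Recog.SporBound.Sound
import Cfsg.Agent.Lib.Recog.SporBound.HeB3.Tree0

set_option autoImplicit false
set_option maxRecDepth 20000

/-! Generated closure certificate: He, <a,b,c,e> over 1 (owner: lead). -/

namespace CfsgLib.Recog.SporBound.HeB3
open CfsgLib.Recog.SporBound

noncomputable def factTree : Q (ℕ) := ft0
noncomputable def nodeTree : Q (ℕ) := ct0
noncomputable def stepTree : Q (List ℕ) := st0
noncomputable def finalTree : Q (List ℕ) := (.node et0 et1 et2 (.leaf []))

/-- The certificate. -/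
noncomputable def cert : Cert where
  n := 48
  nd := 47
  nf := 96
  kl := [0, 1, 2, 4]
  facts := factTree
  cn := nodeTree
  steps := stepTree
  finals := finalTree
  rels := [[0, 0], [1, 1], [2, 2], [4, 4], [0, 1, 0, 1, 0, 1, 0, 1], [0, 2, 0, 2], [0, 4, 0, 4], [1, 2, 1, 2, 1, 2], [1, 4, 1, 4], [2, 4, 2, 4], [4, 2, 1, 0, 2, 1, 0, 2, 1, 0]]
  subs := []

/-- Chains of the traced words. -/
noncomputable def closers : List ℕ := [0x500010000400005d0005e0004800027000180000c00004000000000c00000]

end CfsgLib.Recog.SporBound.HeB3
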